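import Groth.Agent.Pi1X.FEtFull
import Groth.Agent.Pi1X.FEtPoints
import Groth.Agent.S8533
import Groth.Agent.H23.LocNoethTop
import Mathlib.RingTheory.Henselian

/-! Full faithfulness of restriction to proper schemes with connected closed geometric fibre. -/

set_option autoImplicit false
set_option linter.style.haveILetI false
set_option backward.isDefEq.respectTransparency false
set_option backward.isDefEq.respectTransparency.types false
universe u

open CategoryTheory CategoryTheory.Limits AlgebraicGeometry TopologicalSpace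

noncomputable section

namespace Groth.Agent.CompleteFF

/-- Finite schemes over henselian Noetherian local rings split at the closed fibre. -/
theorem exists_isClopen_singleton {A : Type u} [CommRing A] [HenselianLocalRing A] [IsNoetherianRing A]
    {W : Scheme.{u}} (q : W ⟶ Spec (CommRingCat.of A)) [IsFinite q] (w : W)
    (hw : q w = IsLocalRing.closedPoint A) :
    ∃ U : Set W, IsClopen U ∧ w ∈ U ∧ ∀ w' ∈ U, q w' = IsLocalRing.closedPoint A → w' = w := by
  let s : Spec (CommRingCat.of A) := (IsLocalRing.closedPoint A : PrimeSpectrum A)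
  haveI : IsNoetherian (Spec (CommRingCat.of A)) := inferInstance
  haveI : IsLocallyNoetherian W := LocallyOfFiniteType.isLocallyNoetherian q
  haveI : CompactSpace W := QuasiCompact.compactSpace_of_compactSpace q
  haveI : IsNoetherian W := {}
  haveI : LocallyConnectedSpace W := H23.LocNoethTop.locallyConnectedSpace fun x =>
    ⟨Set.univ, Filter.univ_mem, (noetherianSpace_set_iff _).2 fun t _ => NoetherianSpace.isCompact t⟩
  refine ⟨connectedComponent w, isClopen_connectedComponent, mem_connectedComponent, fun w' hw' hq => ?_⟩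
  obtain ⟨a, rfl⟩ : w ∈ Set.range (q.fiberι s) := by rw [q.range_fiberι]; exact hw
  obtain ⟨b, rfl⟩ : w' ∈ Set.range (q.fiberι s) := by rw [q.range_fiberι]; exact hq
  haveI : DiscreteTopology ↥(q ⁻¹' {s}) := (q.isDiscrete_preimage_singleton s).to_subtype
  haveI : DiscreteTopology ↥(q.fiber s) := (q.fiberHomeo s).symm.discreteTopology
  have h := (Groth.Agent.S8533.result A q).1 (a₁ := ConnectedComponents.mk b) (a₂ := ConnectedComponents.mk a)
    (ConnectedComponents.coe_eq_coe'.2 hw')
  have : b ∈ connectedComponent a := ConnectedComponents.coe_eq_coe'.1 h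
  rw [connectedComponent_eq_singleton] at this
  rw [Set.mem_singleton_iff.1 this]

/-- Restriction is fully faithful. -/
theorem restrict_fullyFaithful (A : Type u) [CommRing A] [HenselianLocalRing A] [IsNoetherianRing A]
    {X : Scheme.{u}} (f : X ⟶ Spec (CommRingCat.of A)) [IsProper f]
    (Ω : Type u) [Field Ω] [IsSepClosed Ω] (ξ : Spec (CommRingCat.of Ω) ⟶ Spec (CommRingCat.of A))
    (hξ : ξ (IsLocalRing.closedPoint Ω) = IsLocalRing.closedPoint A) [ConnectedSpace ↥(pullback f ξ)] :
    (FEt.restrict f).Full ∧ (FEt.restrict f).Faithful := by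
  let s₀ : Spec (CommRingCat.of A) := IsLocalRing.closedPoint A
  have hclosed : ∀ (W : Scheme.{u}) (q : W ⟶ Spec (CommRingCat.of A)), IsClosed (q.base '' Set.univ) →
      Nonempty W → ∃ w, q w = s₀ := fun W q hq hne => by
    obtain ⟨w⟩ := hne
    obtain ⟨v, -, hv⟩ := (IsLocalRing.specializes_closedPoint (q w : PrimeSpectrum A)).mem_closed hq ⟨w, trivial, rfl⟩
    exact ⟨v, hv⟩
  have hC : ∀ C : Set ↥(Spec (CommRingCat.of A)), IsClopen C → C.Nonempty → (C ∩ Set.range f.base).Nonempty := by
    rintro C hC ⟨c, hc⟩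
    obtain ⟨x⟩ : Nonempty ↥(pullback f ξ) := inferInstance
    refine ⟨s₀, (IsLocalRing.specializes_closedPoint (c : PrimeSpectrum A)).mem_closed hC.1 hc, pullback.fst f ξ x, ?_⟩
    rw [← Scheme.Hom.comp_apply, pullback.condition, Scheme.Hom.comp_apply, Subsingleton.elim (pullback.snd f ξ x) (IsLocalRing.closedPoint Ω), hξ]
  refine ⟨Pi1X.restrict_full f hC fun W C hCc => ?_, Pi1X.restrict_faithful f hC⟩
  let q : W.left ⟶ Spec (CommRingCat.of A) := W.hom
  haveI : IsFinite q := W.prop.1
  haveI : Etale q := W.prop.2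
  let j : pullback W.hom f ⟶ W.left := pullback.fst W.hom f
  haveI : IsProper j := MorphismProperty.pullback_fst _ _ ‹_›
  haveI : IsProper (j ≫ q) := inferInstance
  have hfib : ∀ w, q w = s₀ → _root_.IsPreconnected (j ⁻¹' {w}) := fun w hw => by
    obtain ⟨⟨t, ht⟩, htw⟩ := Pi1X.exists_lift_at ξ q w (hw.trans hξ.symm)
    let r : pullback f ξ ⟶ pullback W.hom f := pullback.lift (pullback.snd f ξ ≫ t) (pullback.fst f ξ)
      (by rw [Category.assoc, ht, pullback.condition])
    have hsq : IsPullback r (pullback.snd f ξ) j t := by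
      refine IsPullback.of_right ?_ (pullback.lift_fst _ _ _) (IsPullback.of_hasPullback W.hom f).flip
      rw [pullback.lift_snd, ht]
      exact IsPullback.of_hasPullback f ξ
    have : j ⁻¹' {w} = Set.range r := by
      refine Set.Subset.antisymm (fun z hz => ?_) ?_
      · obtain ⟨v, hv, -⟩ := Scheme.exists_preimage_of_isPullback hsq z (IsLocalRing.closedPoint Ω) (hz.trans htw.symm)
        exact ⟨v, hv⟩
      · rintro _ ⟨v, rfl⟩
        show j (r v) = w
        rw [← Scheme.Hom.comp_apply, hsq.w, Scheme.Hom.comp_apply, Subsingleton.elim (pullback.snd f ξ v) (IsLocalRing.closedPoint Ω), htw]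
    rw [this]
    exact (isPreconnected_range r.continuous)
  let S : Set W.left := {w | q w = s₀ ∧ (j ⁻¹' {w} ∩ C).Nonempty}
  have hSfin : S.Finite := (q.finite_preimage_singleton s₀).subset fun w hw => hw.1
  choose U hU hwU hUuniq using fun w : S => exists_isClopen_singleton q w.1 w.2.1
  haveI := hSfin.to_subtype
  let G : Set W.left := ⋃ w : S, U w
  have hG : IsClopen G := isClopen_iUnion_of_finite hU
  refine ⟨G, hG, ?_⟩
  have hD : IsClopen (symmDiff (j ⁻¹' G) C) := by
    rw [Set.symmDiff_def]
    exact ((hG.preimage j.continuous).diff hCc).union (hCc.diff (hG.preimage j.continuous))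
  by_contra hne
  let O : (pullback W.hom f).Opens := ⟨_, hD.2⟩
  obtain ⟨z, hz⟩ := hclosed O.toScheme (O.ι ≫ j ≫ q) (by
    rw [show (O.ι ≫ j ≫ q).base '' Set.univ = (j ≫ q).base '' symmDiff (j ⁻¹' G) C by
      rw [Set.image_univ]
      show Set.range ((j ≫ q).base ∘ O.ι.base) = _
      rw [Set.range_comp, Scheme.Opens.range_ι]; rfl]
    exact (j ≫ q).isClosedMap _ hD.1) (Set.symmDiff_nonempty.2 hne).to_subtype
  have hz' : q (j z.1) = s₀ := hz
  rcases z.2 with ⟨hzG, hzC⟩ | ⟨hzC, hzG⟩
  · obtain ⟨w, hw⟩ := Set.mem_iUnion.1 hzG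
    have hjw : j z.1 = w.1 := hUuniq w _ hw hz'
    exact hzC ((hfib w.1 w.2.1).subset_isClopen hCc w.2.2 hjw)
  · exact hzG (Set.mem_iUnion.2 ⟨⟨j z.1, hz', z.1, rfl, hzC⟩, hwU _⟩)

end Groth.Agent.CompleteFF
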